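import Cfsg.Agent.EqLemmas
import Cfsg.Agent.Lib.GLOrder.LinOrders

/-!
# Element orders of `PSL(3, q)`
* `exists_exponent` : every element of `SL(3, q)` has a listed scalar power
* `exists_order_*` : the listed orders occur
-/

set_option autoImplicit false
set_option linter.style.haveILetI false
set_option linter.unusedSimpArgs false

namespace Cfsg.Agent.PSLThree

open Polynomial Matrix

variable {F : Type*} [Field F] [Fintype F]

local notation "q" => Fintype.card F
local notation "dd" => Nat.gcd 3 (Fintype.card F - 1)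

theorem pow_one_of_dvd {α : Type*} [Monoid α] {x : α} {a b : ℕ} (h : x ^ a = 1) (hd : a ∣ b) : x ^ b = 1 := by
  obtain ⟨c, rfl⟩ := hd; rw [pow_mul, h, one_pow]

theorem two_le_q : 2 ≤ q := Fintype.one_lt_card

theorem dd_dvd : dd ∣ q ^ 2 + q + 1 ∧ dd ∣ q + 2 ∧ dd ∣ q ^ 2 - 1 := by
  have h3 : dd ∣ 3 := Nat.gcd_dvd_left _ _
  have h1 : dd ∣ q - 1 := Nat.gcd_dvd_right _ _
  obtain ⟨r, hr⟩ : ∃ r, q = r + 1 := ⟨q - 1, by have := two_le_q (F := F); omega⟩
  rw [hr, Nat.add_sub_cancel] at h1 h3 ⊢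
  refine ⟨?_, ?_, ?_⟩
  · rw [show (r + 1) ^ 2 + (r + 1) + 1 = r * r + 3 * r + 3 by ring]
    exact Nat.dvd_add (Nat.dvd_add (h1.mul_right r) (h3.mul_right r)) h3
  · rw [show r + 1 + 2 = r + 3 by ring]
    exact Nat.dvd_add h1 h3
  · rw [show (r + 1) ^ 2 - 1 = r * (r + 2) by
      have : (r + 1) ^ 2 = r * (r + 2) + 1 := by ring
      omega]
    exact h1.mul_right _

/-- A scalar power from a polynomial congruence. -/
theorem pow_mem_center (g : SpecialLinearGroup (Fin 3) F) {m : ℕ} {c : F}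
    (h : (g : Matrix (Fin 3) (Fin 3) F).charpoly ∣ X ^ m - C c) :
    g ^ m ∈ Subgroup.center (SpecialLinearGroup (Fin 3) F) := by
  have h0 : aeval (g : Matrix (Fin 3) (Fin 3) F) (X ^ m - C c) = 0 :=
    Polynomial.aeval_eq_zero_of_dvd_aeval_eq_zero h (Matrix.aeval_self_charpoly _)
  rw [map_sub, map_pow, aeval_X, aeval_C, sub_eq_zero, ← Matrix.SpecialLinearGroup.coe_pow] at h0
  rw [Matrix.SpecialLinearGroup.mem_center_iff]
  refine ⟨c, ?_, ?_⟩
  · have hd := (g ^ m).2
    rw [h0, Matrix.algebraMap_eq_diagonal, Matrix.det_diagonal] at hd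
    simpa using hd
  · rw [h0, Matrix.algebraMap_eq_diagonal]
    rfl

/-- Roots of an irreducible factor. -/
theorem root_facts {h : F[X]} (hi : Irreducible h) (hm : h.Monic) [Fact (Irreducible h)] {k : ℕ}
    (hk : h.natDegree = k) :
    algebraMap F (AdjoinRoot h) ((-1) ^ k * h.coeff 0) = AdjoinRoot.root h ^ (∑ i ∈ Finset.range k, q ^ i) ∧
      (h.coeff 0 ≠ 0 → AdjoinRoot.root h ^ (q ^ k - 1) = 1) := by
  haveI : FiniteDimensional F (AdjoinRoot h) := (AdjoinRoot.powerBasis hi.ne_zero).finite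
  haveI : Finite (AdjoinRoot h) := Module.finite_of_finite F
  constructor
  · have hN := Algebra.PowerBasis.norm_gen_eq_coeff_zero_minpoly (AdjoinRoot.powerBasis hi.ne_zero)
    rw [AdjoinRoot.minpoly_powerBasis_gen_of_monic hm, AdjoinRoot.powerBasis_dim, AdjoinRoot.powerBasis_gen, hk] at hN
    rw [← hN, FiniteField.algebraMap_norm_eq_pow_sum, Nat.card_eq_fintype_card]
    rw [(AdjoinRoot.powerBasis hi.ne_zero).finrank, AdjoinRoot.powerBasis_dim, hk]
  · intro h0
    haveI := Fintype.ofFinite (AdjoinRoot h)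
    have hcard : Fintype.card (AdjoinRoot h) = q ^ k := by
      rw [← Nat.card_eq_fintype_card, Module.natCard_eq_pow_finrank (K := F),
        (AdjoinRoot.powerBasis hi.ne_zero).finrank, AdjoinRoot.powerBasis_dim, hk, Nat.card_eq_fintype_card]
    rw [← hcard]
    refine FiniteField.pow_card_sub_one_eq_one _ fun hz => h0 ?_
    have h1 : aeval (AdjoinRoot.root h) h = 0 := by rw [AdjoinRoot.aeval_eq, AdjoinRoot.mk_self]
    rw [hz, ← coeff_zero_eq_aeval_zero'] at h1
    simpa using h1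

theorem dvd_iff_root {h P : F[X]} [Fact (Irreducible h)] : h ∣ P ↔ aeval (AdjoinRoot.root h) P = 0 := by
  rw [AdjoinRoot.aeval_eq, AdjoinRoot.mk_eq_zero]

theorem exists_cube_root {K : Type*} [Field K] [Algebra F K] {z : K} (hz : z ^ dd = 1) :
    ∃ c : F, algebraMap F K c = z := by
  have h3 : z ^ 3 = 1 := pow_one_of_dvd hz (Nat.gcd_dvd_left _ _)
  rcases (Nat.dvd_prime Nat.prime_three).1 (Nat.gcd_dvd_left 3 (q - 1)) with hd | hd
  · rw [hd, pow_one] at hz
    exact ⟨1, by rw [map_one, hz]⟩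
  · haveI : Fact (Nat.Prime 3) := ⟨Nat.prime_three⟩
    have h3q : 3 ∣ q - 1 := hd ▸ Nat.gcd_dvd_right 3 (q - 1)
    obtain ⟨w, hw⟩ := exists_prime_orderOf_dvd_card' (G := Fˣ) 3 (by
      rwa [Nat.card_units, Nat.card_eq_fintype_card])
    have hprim : IsPrimitiveRoot (algebraMap F K (w : F)) 3 := by
      have : IsPrimitiveRoot (w : F) 3 := by
        rw [IsPrimitiveRoot.iff_orderOf, orderOf_units, hw]
      exact this.map_of_injective (algebraMap F K).injective
    obtain ⟨i, -, hi⟩ := hprim.eq_pow_of_pow_eq_one h3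
    exact ⟨(w : F) ^ i, by rw [map_pow, hi]⟩

/-- Every element has a listed scalar power. -/
theorem exists_exponent (p : ℕ) [Fact p.Prime] [CharP F p] (g : SpecialLinearGroup (Fin 3) F) :
    ∃ m, (m = (q ^ 2 + q + 1) / dd ∨ m = (q ^ 2 - 1) / dd ∨ m = q - 1 ∨ m = p * (q - 1) / dd ∨ (p = 2 ∧ m = 4)) ∧
      g ^ m ∈ Subgroup.center (SpecialLinearGroup (Fin 3) F) := by
  classical
  set f := (g : Matrix (Fin 3) (Fin 3) F).charpoly with hf
  have hm : f.Monic := charpoly_monic _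
  have hdeg : f.natDegree = 3 := by rw [hf, charpoly_natDegree_eq_dim, Fintype.card_fin]
  have hc0 : f.coeff 0 = -1 := by
    have := Matrix.det_eq_sign_charpoly_coeff (g : Matrix (Fin 3) (Fin 3) F)
    rw [g.2, Fintype.card_fin, ← hf] at this
    linear_combination this
  obtain ⟨hd1, hd2, hd3⟩ := dd_dvd (F := F)
  by_cases hirr : Irreducible f
  · haveI := Fact.mk hirr
    obtain ⟨hN, -⟩ := root_facts hirr hm hdeg
    rw [hc0, show ((-1 : F) ^ 3 * -1) = 1 by ring, map_one] at hN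
    have hz : ((AdjoinRoot.root f) ^ ((q ^ 2 + q + 1) / dd)) ^ dd = 1 := by
      rw [← pow_mul, Nat.div_mul_cancel hd1, hN]
      congr 1
      simp [Finset.sum_range_succ]
      ring
    obtain ⟨c, hc⟩ := exists_cube_root hz
    refine ⟨_, Or.inl rfl, pow_mem_center g (c := c) ?_⟩
    rw [dvd_iff_root, map_sub, map_pow, aeval_X, aeval_C, hc, sub_self]
  obtain ⟨a, ha⟩ := Multiset.exists_mem_of_ne_zero (fun h0 => hirr ((hm.irreducible_iff_roots_eq_zero_of_degree_le_three
    (by omega) (by omega)).2 h0))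
  obtain ⟨h, hh⟩ := dvd_iff_isRoot.2 (isRoot_of_mem_roots ha)
  have hhm : h.Monic := (monic_X_sub_C a).of_mul_monic_left (hh ▸ hm)
  have hhdeg : h.natDegree = 2 := by
    have := (monic_X_sub_C a).natDegree_mul hhm
    rw [← hh, hdeg, natDegree_X_sub_C] at this
    omega
  have hah : a * h.coeff 0 = 1 := by
    rw [hh, mul_coeff_zero, coeff_sub, coeff_X_zero, coeff_C_zero] at hc0
    linear_combination -hc0
  have hh0 : h.coeff 0 ≠ 0 := fun h0 => by rw [h0, mul_zero] at hah; exact zero_ne_one hah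
  have ha0 : a ≠ 0 := fun h0 => by rw [h0, zero_mul] at hah; exact zero_ne_one hah
  have hunit : ∀ x : F, x ≠ 0 → x ^ (q - 1) = 1 := fun x hx => FiniteField.pow_card_sub_one_eq_one x hx
  by_cases hhi : Irreducible h
  · haveI := Fact.mk hhi
    obtain ⟨hN, hpow⟩ := root_facts hhi hhm hhdeg
    rw [show ((-1 : F) ^ 2 * h.coeff 0) = h.coeff 0 by ring] at hN
    simp only [Finset.sum_range_succ, Finset.sum_range_zero, pow_zero, pow_one, zero_add] at hN
    set m := (q ^ 2 - 1) / dd with hm'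
    have hkey : algebraMap F (AdjoinRoot h) (a ^ m) = AdjoinRoot.root h ^ m := by
      have h2 : AdjoinRoot.root h ^ ((q + 2) * m) = 1 := by
        refine pow_one_of_dvd (hpow hh0) ?_
        obtain ⟨k, hk⟩ := hd2
        refine ⟨k, ?_⟩
        rw [hk, hm', mul_comm dd k, mul_assoc, Nat.mul_div_cancel' hd3]
        ring
      have h3 : algebraMap F (AdjoinRoot h) (a ^ m) * algebraMap F (AdjoinRoot h) (h.coeff 0) ^ m = 1 := by
        rw [← map_pow, ← map_mul, ← mul_pow, hah, one_pow, map_one]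
      have hne : algebraMap F (AdjoinRoot h) (h.coeff 0) ^ m ≠ 0 :=
        pow_ne_zero _ (by rw [Ne, map_eq_zero]; exact hh0)
      refine mul_right_cancel₀ hne ?_
      rw [h3, hN, ← pow_mul, ← pow_add, ← h2]
      congr 1
      ring
    refine ⟨m, Or.inr (Or.inl rfl), pow_mem_center g (c := a ^ m) ?_⟩
    rw [← hf, hh]
    refine IsCoprime.mul_dvd ?_ ?_ ?_
    · refine (Irreducible.coprime_iff_not_dvd (irreducible_X_sub_C a)).2 fun hd => ?_
      have := (irreducible_X_sub_C a).associated_of_dvd hhi hd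
      have := natDegree_eq_of_degree_eq (degree_eq_degree_of_associated this)
      rw [hhdeg, natDegree_X_sub_C] at this
      omega
    · rw [dvd_iff_isRoot, IsRoot.def, eval_sub, eval_pow, eval_X, eval_C, sub_self]
    · rw [dvd_iff_root, map_sub, map_pow, aeval_X, aeval_C, hkey, sub_self]
  obtain ⟨b, hb⟩ := Multiset.exists_mem_of_ne_zero (fun h0 => hhi ((hhm.irreducible_iff_roots_eq_zero_of_degree_le_three
    (by omega) (by omega)).2 h0))
  obtain ⟨l, hl⟩ := dvd_iff_isRoot.2 (isRoot_of_mem_roots hb)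
  have hlm : l.Monic := (monic_X_sub_C b).of_mul_monic_left (hl ▸ hhm)
  have hldeg : l.natDegree = 1 := by
    have := (monic_X_sub_C b).natDegree_mul hlm
    rw [← hl, hhdeg, natDegree_X_sub_C] at this
    omega
  obtain ⟨c, hc⟩ : ∃ c, l = X - C c := ⟨-l.coeff 0, by
    rw [map_neg, sub_neg_eq_add]; exact hlm.eq_X_add_C hldeg⟩
  have hfact : f = (X - C a) * ((X - C b) * (X - C c)) := by rw [hh, hl, hc]
  have habc : a * b * c = 1 := by
    rw [hl, hc, mul_coeff_zero, coeff_sub, coeff_sub, coeff_X_zero, coeff_C_zero, coeff_C_zero] at hah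
    linear_combination hah
  have hb0 : b ≠ 0 := fun h0 => by rw [h0, mul_zero, zero_mul] at habc; exact zero_ne_one habc
  have hc0' : c ≠ 0 := fun h0 => by rw [h0, mul_zero] at habc; exact zero_ne_one habc
  haveI : CharP F[X] p := inferInstance
  have hfrob : ∀ (x : F) (k : ℕ), ((X - C x) ^ p) ∣ (X ^ (p * k) - C (x ^ (p * k)) : F[X]) := by
    intro x k
    rw [mul_comm p k, pow_mul, pow_mul x, C_pow, ← sub_pow_char]
    refine pow_dvd_pow_of_dvd ?_ p
    rw [dvd_iff_isRoot, IsRoot.def, eval_sub, eval_pow, eval_X, eval_C, sub_self]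
  have hdpos : 0 < dd := Nat.gcd_pos_of_pos_left _ (by norm_num)
  by_cases hdist : a ≠ b ∧ a ≠ c ∧ b ≠ c
  · obtain ⟨hab, hac, hbc⟩ := hdist
    refine ⟨q - 1, Or.inr (Or.inr (Or.inl rfl)), pow_mem_center g (c := 1) ?_⟩
    rw [← hf, hfact, map_one]
    have hr : ∀ x : F, x ≠ 0 → (X - C x : F[X]) ∣ X ^ (q - 1) - 1 := fun x hx => by
      rw [dvd_iff_isRoot, IsRoot.def, eval_sub, eval_pow, eval_X, eval_one, hunit x hx, sub_self]
    exact IsCoprime.mul_dvd ((isCoprime_X_sub_C_of_isUnit_sub (sub_ne_zero.2 hab).isUnit).mul_right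
      (isCoprime_X_sub_C_of_isUnit_sub (sub_ne_zero.2 hac).isUnit)) (hr a ha0)
      (IsCoprime.mul_dvd (isCoprime_X_sub_C_of_isUnit_sub (sub_ne_zero.2 hbc).isUnit) (hr b hb0) (hr c hc0'))
  -- a repeated root
  obtain ⟨x, y, hxy, hfxy, hx0, hy0⟩ : ∃ x y : F, x * x * y = 1 ∧ f = (X - C x) ^ 2 * (X - C y) ∧ x ≠ 0 ∧ y ≠ 0 := by
    push Not at hdist
    by_cases hab : a = b
    · subst hab; exact ⟨a, c, habc, by rw [hfact]; ring, ha0, hc0'⟩
    · by_cases hac : a = c
      · subst hac; exact ⟨a, b, by rw [← habc]; ring, by rw [hfact]; ring, ha0, hb0⟩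
      · obtain rfl := hdist hab hac
        exact ⟨b, a, by rw [← habc]; ring, by rw [hfact]; ring, hb0, ha0⟩
  by_cases hsame : x = y
  · subst hsame
    by_cases hp2 : p = 2
    · subst hp2
      refine ⟨4, Or.inr (Or.inr (Or.inr (Or.inr ⟨rfl, rfl⟩))), pow_mem_center g (c := x ^ 4) ?_⟩
      rw [← hf, hfxy, C_pow]
      have : (X ^ 4 - C x ^ 4 : F[X]) = (X - C x) ^ 4 := by
        rw [show (4 : ℕ) = 2 ^ 2 from rfl, sub_pow_char_pow]
      rw [this]
      exact ⟨X - C x, by ring⟩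
    · have hp3 : 3 ≤ p := by have := (Fact.out : p.Prime).two_le; omega
      refine ⟨_, Or.inr (Or.inr (Or.inr (Or.inl rfl))), pow_mem_center g (c := x ^ (p * (q - 1) / dd)) ?_⟩
      rw [← hf, hfxy, Nat.mul_div_assoc _ (Nat.gcd_dvd_right 3 (q - 1))]
      refine dvd_trans ?_ (hfrob x _)
      rw [← pow_succ]
      exact pow_dvd_pow _ hp3
  · refine ⟨_, Or.inr (Or.inr (Or.inr (Or.inl rfl))), pow_mem_center g (c := x ^ (p * (q - 1) / dd)) ?_⟩
    rw [← hf, hfxy, Nat.mul_div_assoc _ (Nat.gcd_dvd_right 3 (q - 1))]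
    set k := (q - 1) / dd with hk
    refine IsCoprime.mul_dvd (isCoprime_X_sub_C_of_isUnit_sub (sub_ne_zero.2 hsame).isUnit).pow_left ?_ ?_
    · exact dvd_trans (pow_dvd_pow _ (Fact.out : p.Prime).two_le) (hfrob x k)
    · have hx3 : x ^ (3 * (p * k)) = 1 := by
        refine pow_one_of_dvd (hunit x hx0) ?_
        obtain ⟨t, ht⟩ := Nat.gcd_dvd_left 3 (q - 1)
        refine ⟨t * p, ?_⟩
        have e : dd * k = q - 1 := Nat.mul_div_cancel' (Nat.gcd_dvd_right 3 (q - 1))
        rw [← e]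
        calc 3 * (p * k) = (dd * t) * (p * k) := by rw [← ht]
          _ = _ := by ring
      rw [dvd_iff_isRoot, IsRoot.def, eval_sub, eval_pow, eval_X, eval_C, sub_eq_zero]
      have : y ^ (p * k) * x ^ (2 * (p * k)) = x ^ (p * k) * x ^ (2 * (p * k)) := by
        rw [← pow_add, show p * k + 2 * (p * k) = 3 * (p * k) by ring, hx3, pow_mul x 2, ← mul_pow, sq, mul_comm y,
          hxy, one_pow]
      exact mul_right_cancel₀ (pow_ne_zero _ hx0) this

theorem div_dvd_of {N j : ℕ} (h1 : N ∣ 3 * j) (h2 : N ∣ (q - 1) * j) (hd : dd ∣ N) : N / dd ∣ j := by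
  have h := Nat.dvd_gcd h1 h2
  rw [Nat.gcd_mul_right] at h
  obtain ⟨t, ht⟩ := hd
  have hdpos : 0 < dd := Nat.gcd_pos_of_pos_left _ (by norm_num)
  rw [ht, Nat.mul_div_cancel_left _ hdpos]
  rw [ht] at h
  exact Nat.dvd_of_mul_dvd_mul_left hdpos h

/-- A field extension element gives an order. -/
theorem exists_gen (k : ℕ) [NeZero k] (p : ℕ) [Fact p.Prime] [CharP F p] :
    ∃ y : FiniteField.Extension F p k, y ≠ 0 ∧ orderOf y = q ^ k - 1 := by
  set K := FiniteField.Extension F p k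
  haveI : Finite K := Module.finite_of_finite F
  obtain ⟨u, hu⟩ := IsCyclic.exists_ofOrder_eq_natCard (α := Kˣ)
  exact ⟨(u : K), u.ne_zero, by
    rw [orderOf_units, hu, Nat.card_units, FiniteField.natCard_extension, Nat.card_eq_fintype_card]⟩

theorem scalar_leftMul {ι : Type*} [Fintype ι] [DecidableEq ι] {K : Type*} [Field K] [Algebra F K]
    (B : Module.Basis ι F K) {x : K} {c : F} (h : Algebra.leftMulMatrix B x = c • (1 : Matrix ι ι F)) :
    x = algebraMap F K c := by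
  apply Algebra.leftMulMatrix_injective B
  rw [h, AlgHom.commutes, Algebra.algebraMap_eq_smul_one]

theorem exists_order_singer (p : ℕ) [Fact p.Prime] [CharP F p] :
    ∃ y : ProjectiveSpecialLinearGroup (Fin 3) F, orderOf y = (q ^ 2 + q + 1) / dd := by
  set K := FiniteField.Extension F p 3
  obtain ⟨y, hy0, hy⟩ : ∃ y : K, y ≠ 0 ∧ orderOf y = q ^ 3 - 1 := exists_gen (F := F) 3 p
  haveI : Finite K := Module.finite_of_finite F
  have hfr : Module.finrank F K = 3 := FiniteField.finrank_extension F p 3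
  let B : Module.Basis (Fin 3) F K := (Module.finBasis F K).reindex (finCongr hfr)
  have hN : Algebra.norm F (y ^ (q - 1)) = 1 := by
    rw [map_pow]
    exact FiniteField.pow_card_sub_one_eq_one _ (Algebra.norm_ne_zero_iff.2 hy0)
  refine GLOrder.exists_psl_orderOf (ι := Fin 3) (Fintype.card_fin 3)
    (M := Algebra.leftMulMatrix B (y ^ (q - 1))) (by rw [← Algebra.norm_eq_matrix_det]; exact hN) ?_
  intro j c hc hM
  rw [← map_pow] at hM
  have hx := scalar_leftMul B hM
  obtain ⟨r, hr⟩ : ∃ r, q = r + 1 := ⟨q - 1, by have := two_le_q (F := F); omega⟩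
  have hcne : c ≠ 0 := fun h0 => by rw [h0] at hc; simp at hc
  have h1 : q ^ 3 - 1 ∣ (q - 1) * j * 3 := by
    rw [← hy]
    refine orderOf_dvd_of_pow_eq_one ?_
    rw [pow_mul, pow_mul, hx, ← map_pow, hc, map_one]
  have h2 : q ^ 3 - 1 ∣ (q - 1) * j * (q - 1) := by
    rw [← hy]
    refine orderOf_dvd_of_pow_eq_one ?_
    rw [pow_mul, pow_mul, hx, ← map_pow, FiniteField.pow_card_sub_one_eq_one c hcne, map_one]
  rw [show q ^ 3 - 1 = (q - 1) * (q ^ 2 + q + 1) by
    rw [hr, Nat.add_sub_cancel]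
    have : (r + 1) ^ 3 = r * ((r + 1) ^ 2 + (r + 1) + 1) + 1 := by ring
    omega] at h1 h2
  have hr0 : 0 < q - 1 := by have := two_le_q (F := F); omega
  rw [mul_assoc] at h1 h2
  refine div_dvd_of ?_ ?_ dd_dvd.1
  · rw [mul_comm 3]; exact Nat.dvd_of_mul_dvd_mul_left hr0 h1
  · rw [mul_comm (q - 1) j]; exact Nat.dvd_of_mul_dvd_mul_left hr0 h2

theorem exists_order_quad (p : ℕ) [Fact p.Prime] [CharP F p] :
    ∃ y : ProjectiveSpecialLinearGroup (Fin 3) F, orderOf y = (q ^ 2 - 1) / dd := by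
  set K := FiniteField.Extension F p 2
  obtain ⟨y, hy0, hy⟩ : ∃ y : K, y ≠ 0 ∧ orderOf y = q ^ 2 - 1 := exists_gen (F := F) 2 p
  haveI : Finite K := Module.finite_of_finite F
  have hfr : Module.finrank F K = 2 := FiniteField.finrank_extension F p 2
  let B : Module.Basis (Fin 2) F K := (Module.finBasis F K).reindex (finCongr hfr)
  set N := Algebra.norm F y with hN
  have hN0 : N ≠ 0 := Algebra.norm_ne_zero_iff.2 hy0
  refine GLOrder.exists_psl_orderOf (ι := Fin 2 ⊕ Fin 1) (by simp)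
    (M := GLOrder.blockMat (Algebra.leftMulMatrix B y) (Matrix.diagonal fun _ : Fin 1 => N⁻¹)) ?_ ?_
  · rw [GLOrder.blockMat_det, ← Algebra.norm_eq_matrix_det, Matrix.det_diagonal, Fin.prod_univ_one, ← hN,
      mul_inv_cancel₀ hN0]
  intro j c hc hM
  rw [GLOrder.blockMat_pow] at hM
  obtain ⟨hA, -⟩ := GLOrder.blockMat_eq_smul_one hM
  rw [← map_pow] at hA
  have hx := scalar_leftMul B hA
  have hcne : c ≠ 0 := fun h0 => by rw [h0] at hc; simp at hc
  refine div_dvd_of ?_ ?_ dd_dvd.2.2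
  · rw [← hy, mul_comm]
    refine orderOf_dvd_of_pow_eq_one ?_
    rw [pow_mul, hx, ← map_pow, hc, map_one]
  · rw [← hy, mul_comm (q - 1) j]
    refine orderOf_dvd_of_pow_eq_one ?_
    rw [pow_mul, hx, ← map_pow, FiniteField.pow_card_sub_one_eq_one c hcne, map_one]

theorem exists_primitive : ∃ a : F, a ≠ 0 ∧ orderOf a = q - 1 := by
  obtain ⟨u, hu⟩ := IsCyclic.exists_ofOrder_eq_natCard (α := Fˣ)
  exact ⟨(u : F), u.ne_zero, by rw [orderOf_units, hu, Nat.card_units, Nat.card_eq_fintype_card]⟩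

theorem exists_order_split :
    ∃ y : ProjectiveSpecialLinearGroup (Fin 3) F, orderOf y = q - 1 := by
  obtain ⟨a, ha0, ha⟩ := exists_primitive (F := F)
  refine GLOrder.exists_psl_orderOf (ι := Fin 3) (Fintype.card_fin 3)
    (M := Matrix.diagonal ![a, a⁻¹, 1]) ?_ ?_
  · simp [Matrix.det_diagonal, Fin.prod_univ_three, ha0]
  intro j c _ hM
  rw [Matrix.diagonal_pow, Matrix.smul_one_eq_diagonal] at hM
  have h := Matrix.diagonal_injective hM
  have h1 := congrFun h 0
  have h3 := congrFun h 2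
  simp at h1 h3
  rw [← ha]
  exact orderOf_dvd_of_pow_eq_one (h1.trans h3.symm)

theorem jordan_pow (a : F) (j : ℕ) :
    (!![a, 1; 0, a] : Matrix (Fin 2) (Fin 2) F) ^ j = !![a ^ j, (j : F) * a ^ (j - 1); 0, a ^ j] := by
  induction j with
  | zero => simp [Matrix.one_fin_two]
  | succ j ih =>
    rw [pow_succ, ih, Matrix.mul_fin_two]
    rcases j with _ | j
    · simp
    · ext i k
      fin_cases i <;> fin_cases k <;> simp [pow_succ] <;> ring

theorem exists_order_unip (p : ℕ) [Fact p.Prime] [CharP F p] :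
    ∃ y : ProjectiveSpecialLinearGroup (Fin 3) F, orderOf y = p * (q - 1) / dd := by
  obtain ⟨a, ha0, ha⟩ := exists_primitive (F := F)
  refine GLOrder.exists_psl_orderOf (ι := Fin 2 ⊕ Fin 1) (by simp)
    (M := GLOrder.blockMat (!![a, 1; 0, a] : Matrix (Fin 2) (Fin 2) F) (Matrix.diagonal fun _ : Fin 1 => (a * a)⁻¹))
    ?_ ?_
  · rw [GLOrder.blockMat_det, Matrix.det_fin_two_of, Matrix.det_diagonal, Fin.prod_univ_one]
    field_simp
    ring
  intro j c hc hM
  rw [GLOrder.blockMat_pow, jordan_pow] at hM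
  obtain ⟨hA, -⟩ := GLOrder.blockMat_eq_smul_one hM
  have h00 := congrFun (congrFun hA 0) 0
  have h01 := congrFun (congrFun hA 0) 1
  simp at h00 h01
  have hpj : p ∣ j := by
    rcases h01 with h | h
    · exact (CharP.cast_eq_zero_iff F p j).1 h
    · exact absurd h.1 ha0
  rw [Nat.mul_div_assoc _ (Nat.gcd_dvd_right 3 (q - 1))]
  have hk : (q - 1) / dd ∣ j := by
    refine div_dvd_of ?_ (Dvd.intro j rfl) (Nat.gcd_dvd_right _ _)
    rw [← ha, mul_comm]
    refine orderOf_dvd_of_pow_eq_one ?_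
    rw [pow_mul, h00, hc]
  refine Nat.Coprime.mul_dvd_of_dvd_of_dvd ?_ hpj hk
  refine Nat.Coprime.coprime_dvd_right (Nat.div_dvd_of_dvd (Nat.gcd_dvd_right 3 (q - 1))) ?_
  rw [Nat.Prime.coprime_iff_not_dvd Fact.out]
  intro hd
  obtain ⟨e, -, he⟩ := FiniteField.card F p
  have h1 : p ∣ q := by rw [he]; exact dvd_pow_self p e.2.ne'
  have := Nat.dvd_sub h1 hd
  rw [show q - (q - 1) = 1 by have := two_le_q (F := F); omega] at this
  exact (Fact.out : p.Prime).ne_one (Nat.dvd_one.1 this)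

theorem exists_order_four [CharP F 2] :
    ∃ y : ProjectiveSpecialLinearGroup (Fin 3) F, orderOf y = 4 := by
  set M : Matrix (Fin 3) (Fin 3) F := !![1, 1, 0; 0, 1, 1; 0, 0, 1]
  refine GLOrder.exists_psl_orderOf (ι := Fin 3) (Fintype.card_fin 3) (M := M) ?_ ?_
  · simp [M, Matrix.det_fin_three]
  intro j c _ hM
  have h2 : (1 + 1 : F) = 0 := CharTwo.add_self_eq_zero 1
  have hsq : M ^ 2 = !![1, 0, 1; 0, 1, 0; 0, 0, 1] := by
    rw [sq]
    ext a b
    fin_cases a <;> fin_cases b <;> simp [M, Matrix.mul_apply, Fin.sum_univ_three, h2]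
  have h4 : M ^ 4 = 1 := by
    rw [show (4 : ℕ) = 2 * 2 from rfl, pow_mul, hsq, sq]
    ext a b
    fin_cases a <;> fin_cases b <;> simp [Matrix.mul_apply, Fin.sum_univ_three, h2]
  by_contra hj
  rw [← Nat.div_add_mod j 4, pow_add, pow_mul, h4, one_pow, one_mul] at hM
  have hlt : j % 4 < 4 := Nat.mod_lt _ (by norm_num)
  have hne : j % 4 ≠ 0 := fun h => hj (Nat.dvd_of_mod_eq_zero h)
  interval_cases hm : j % 4
  · simp at hne
  · have h := congrFun (congrFun hM 0) 1
    simp [M] at h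
  · rw [hsq] at hM
    have h := congrFun (congrFun hM 0) 2
    simp at h
  · rw [pow_succ, hsq] at hM
    have h := congrFun (congrFun hM 0) 1
    simp [M, Matrix.mul_apply, Fin.sum_univ_three] at h

end Cfsg.Agent.PSLThree
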